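import Mathlib.NumberTheory.GaussSum
import Mathlib.NumberTheory.LegendreSymbol.QuadraticReciprocity
import Mathlib.NumberTheory.LSeries.PrimesInAP
import Mathlib.RingTheory.Polynomial.Cyclotomic.Basic
import Mathlib.FieldTheory.Galois.Infinite
import Mathlib.FieldTheory.IsAlgClosed.AlgebraicClosure
import Mathlib.Tactic

/-!
# `-1` is a sum of three squares in a field containing `√5` and a root of unity of prime order `r ≥ 7`

With a prime `m ≡ 3 (mod 20)` that is a non-residue modulo `r`: `m` is a sum of two squares by Thue's lemma,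
the cyclotomic values `(y ^ m - 1) / (y - 1)` are norms `e² + m c²` by Gauss, and their product along
`y = ζ ^ (m ^ i)` is `-ζ⁻¹`.
-/

set_option autoImplicit false
set_option linter.style.haveILetI false

namespace Cfsg.Lib.Solv.Amitsur

open Finset

variable {K : Type*} [Field K]

/-- The values of the form `e² + d c²`. -/
def IsForm (d x : K) : Prop := ∃ e c : K, x = e ^ 2 + d * c ^ 2

theorem IsForm.mul {d x y : K} (hx : IsForm d x) (hy : IsForm d y) : IsForm d (x * y) := by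
  obtain ⟨e, c, rfl⟩ := hx
  obtain ⟨e', c', rfl⟩ := hy
  exact ⟨e * e' - d * c * c', e * c' + c * e', by ring⟩

variable [CharZero K]

theorem three_not_square : ∀ z : ZMod 5, z * z ≠ ((3 : ℕ) : ZMod 5) := by decide

/-- Thue's lemma: a prime `m ≡ 3 (mod 20)` is a sum of two squares in a field containing `√5`. -/
theorem prime_sum_two_squares {φ : K} (hφ : φ ^ 2 = φ + 1) {m : ℕ} [Fact m.Prime] (hm : m % 20 = 3) :
    ∃ a b : K, (m : K) = a ^ 2 + b ^ 2 := by
  haveI : Fact (Nat.Prime 5) := ⟨by norm_num⟩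
  have hm2 : m ≠ 2 := by omega
  have h5 : ¬ IsSquare (5 : ZMod m) := by
    have hiff := ZMod.exists_sq_eq_prime_iff_of_mod_four_eq_one (p := 5) (q := m) (by norm_num) hm2
    intro h
    have h' : IsSquare ((5 : ℕ) : ZMod m) := by exact_mod_cast h
    have h3 := hiff.2 h'
    rw [show (m : ZMod 5) = ((3 : ℕ) : ZMod 5) from (ZMod.natCast_eq_natCast_iff' _ _ _).2 (by omega)] at h3
    obtain ⟨z, hz⟩ := h3
    exact three_not_square z hz.symm
  have h1 : ¬ IsSquare (-1 : ZMod m) := fun h => ZMod.exists_sq_eq_neg_one_iff.1 h (by omega)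
  obtain ⟨t, ht⟩ : IsSquare (-5 : ZMod m) := by
    have hF : ringChar (ZMod m) ≠ 2 := by rw [ZMod.ringChar_zmod_n]; exact hm2
    have h50 : (5 : ZMod m) ≠ 0 := fun h => h5 (h ▸ IsSquare.zero)
    by_contra hne
    have e1 := (quadraticChar_neg_one_iff_not_isSquare (F := ZMod m)).2 h1
    have e5 := (quadraticChar_neg_one_iff_not_isSquare (F := ZMod m)).2 h5
    have e := (quadraticChar_neg_one_iff_not_isSquare (F := ZMod m)).2 hne
    rw [show (-5 : ZMod m) = -1 * 5 by ring, map_mul, e1, e5] at e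
    norm_num at e
  set s := Nat.sqrt m
  have hcard : Fintype.card (ZMod m) < Fintype.card (Fin (s + 1) × Fin (s + 1)) := by
    rw [ZMod.card, Fintype.card_prod, Fintype.card_fin]; exact Nat.lt_succ_sqrt m
  obtain ⟨⟨x₁, y₁⟩, ⟨x₂, y₂⟩, hne, heq⟩ := Fintype.exists_ne_map_eq_of_card_lt
    (fun q : Fin (s + 1) × Fin (s + 1) => ((q.1 : ℕ) : ZMod m) - t * ((q.2 : ℕ) : ZMod m)) hcard
  simp only at heq
  set X : ℤ := ((x₁ : ℕ) : ℤ) - ((x₂ : ℕ) : ℤ) with hX
  set Y : ℤ := ((y₁ : ℕ) : ℤ) - ((y₂ : ℕ) : ℤ) with hY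
  have hmod : (X : ZMod m) = t * (Y : ZMod m) := by
    rw [hX, hY]; push_cast; linear_combination heq
  obtain ⟨k, hk⟩ : (m : ℤ) ∣ X ^ 2 + 5 * Y ^ 2 := by
    rw [← ZMod.intCast_zmod_eq_zero_iff_dvd]
    push_cast
    rw [hmod]
    linear_combination (Y : ZMod m) ^ 2 * (-ht)
  have hpos : 0 < X ^ 2 + 5 * Y ^ 2 := by
    rcases eq_or_ne X 0 with hX0 | hX0
    · have hY0 : Y ≠ 0 := fun hY0 => hne (by
        have e1 : x₁ = x₂ := Fin.ext (by omega)
        have e2 : y₁ = y₂ := Fin.ext (by omega)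
        rw [e1, e2])
      have := sq_pos_of_ne_zero hY0
      nlinarith [sq_nonneg X]
    · have := sq_pos_of_ne_zero hX0
      nlinarith [sq_nonneg Y]
  have hss : (s : ℤ) * s < m := by
    have hle : s * s ≤ m := Nat.sqrt_le m
    have hne' : s * s ≠ m := fun e =>
      ((Nat.Prime.prime (Fact.out : m.Prime)).not_isSquare) ⟨s, e.symm⟩
    exact_mod_cast lt_of_le_of_ne hle hne'
  have hlt : X ^ 2 + 5 * Y ^ 2 < 6 * m := by
    have hX1 : X ^ 2 ≤ (s : ℤ) * s := by
      have := x₁.isLt; have := x₂.isLt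
      have h1 : -(s : ℤ) ≤ X ∧ X ≤ s := by omega
      nlinarith
    have hY1 : Y ^ 2 ≤ (s : ℤ) * s := by
      have := y₁.isLt; have := y₂.isLt
      have h1 : -(s : ℤ) ≤ Y ∧ Y ≤ s := by omega
      nlinarith
    nlinarith
  have hm0 : (0 : ℤ) < m := by have := (Fact.out : m.Prime).pos; omega
  have hk1 : 1 ≤ k := by nlinarith
  have hk5 : k ≤ 5 := by nlinarith
  obtain ⟨p, q, hpq⟩ : ∃ p q : K, (k : K) = p ^ 2 + q ^ 2 := by
    interval_cases k
    · exact ⟨1, 0, by push_cast; ring⟩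
    · exact ⟨1, 1, by push_cast; ring⟩
    · exact ⟨φ, 1 - φ, by push_cast; linear_combination (-2 : K) * hφ⟩
    · exact ⟨2, 0, by push_cast; ring⟩
    · exact ⟨2, 1, by push_cast; ring⟩
  have hkne : (k : K) ≠ 0 := by exact_mod_cast (show k ≠ 0 by omega)
  have h5K : (2 * φ - 1) ^ 2 = (5 : K) := by linear_combination (4 : K) * hφ
  have hk' : (m : K) * (k : K) = (X : K) ^ 2 + ((2 * φ - 1) * (Y : K)) ^ 2 := by
    have := congrArg (fun z : ℤ => (z : K)) hk
    push_cast at this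
    rw [mul_pow, h5K]; linear_combination -this
  refine ⟨((X : K) * p - (2 * φ - 1) * (Y : K) * q) / (k : K),
    ((X : K) * q + (2 * φ - 1) * (Y : K) * p) / (k : K), ?_⟩
  field_simp
  linear_combination (k : K) * hk' + ((X : K) ^ 2 + ((2 * φ - 1) * (Y : K)) ^ 2) * hpq

/-- Gauss: the value of the `m`-th cyclotomic polynomial is a norm from `K(√-m)`. -/
theorem geom_isForm {m : ℕ} [Fact m.Prime] (hm : m % 4 = 3) (y : K) (hy : y ≠ 1) :
    IsForm (m : K) (∑ i ∈ range m, y ^ i) := by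
  classical
  have hmp : m.Prime := Fact.out
  let L := AlgebraicClosure K
  haveI : CharZero L := charZero_of_injective_algebraMap (algebraMap K L).injective
  haveI : NeZero (m : L) := ⟨Nat.cast_ne_zero.2 hmp.ne_zero⟩
  obtain ⟨ξ, hξ⟩ := HasEnoughRootsOfUnity.exists_primitiveRoot L m
  set ψ : AddChar (ZMod m) L := AddChar.zmodChar m ((IsPrimitiveRoot.iff_def ξ m).mp hξ).left with hψ
  have hF : ringChar (ZMod m) ≠ 2 := by rw [ZMod.ringChar_zmod_n]; omega
  set χ₀ := quadraticChar (ZMod m) with hχ₀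
  set χ : MulChar (ZMod m) L := χ₀.ringHomComp (Int.castRingHom L) with hχ
  have hχq : χ.IsQuadratic := (quadraticChar_isQuadratic (ZMod m)).comp _
  have hχa : ∀ a, χ a = ((χ₀ a : ℤ) : L) := fun a => rfl
  have hneg : χ₀ (-1) = -1 :=
    quadraticChar_neg_one_iff_not_isSquare.2 fun h => ZMod.exists_sq_eq_neg_one_iff.1 h (by omega)
  have hχ1 : χ ≠ 1 := fun h => by
    have h' : χ (-1) = (1 : MulChar (ZMod m) L) (-1) := by rw [h]
    rw [hχa, hneg, MulChar.one_apply (by simp : IsUnit (-1 : ZMod m))] at h'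
    norm_num at h'
  set g := gaussSum χ ψ with hg
  have hg2 : g ^ 2 = -(m : L) := by
    rw [hg, gaussSum_sq hχ1 hχq (AddChar.zmodChar_primitive_of_primitive_root m hξ), hχa, hneg, ZMod.card]
    push_cast; ring
  set y' : L := algebraMap K L y with hy'
  let F : ℤ → L := fun ε => ∏ a ∈ univ.filter (fun a : ZMod m => χ₀ a = ε), (y' - ψ a)
  -- the product of the two halves
  have hprod : F 1 * F (-1) = ∑ i ∈ range m, y' ^ i := by
    have hd : Disjoint (univ.filter (fun a : ZMod m => χ₀ a = 1)) (univ.filter (fun a : ZMod m => χ₀ a = -1)) :=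
      disjoint_filter.2 fun a _ h h' => by rw [h] at h'; norm_num at h'
    have hun : univ.filter (fun a : ZMod m => χ₀ a = 1) ∪ univ.filter (fun a : ZMod m => χ₀ a = -1) =
        univ.erase 0 := by
      ext a
      simp only [mem_union, mem_filter, mem_univ, true_and, mem_erase, and_true]
      refine ⟨fun h ha => ?_, fun ha => quadraticChar_dichotomy ha⟩
      rw [ha, hχ₀, MulChar.map_zero] at h
      omega
    have hψinj : Function.Injective ψ := fun a b h => by
      rw [hψ, AddChar.zmodChar_apply, AddChar.zmodChar_apply] at h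
      exact ZMod.val_injective m (hξ.pow_inj (ZMod.val_lt a) (ZMod.val_lt b) h)
    have hall : y' ^ m - 1 = ∏ a : ZMod m, (y' - ψ a) := by
      have h1 := congrArg (Polynomial.eval y') (Polynomial.X_pow_sub_one_eq_prod hmp.pos hξ)
      rw [Polynomial.eval_prod] at h1
      simp only [Polynomial.eval_sub, Polynomial.eval_pow, Polynomial.eval_X, Polynomial.eval_one,
        Polynomial.eval_C] at h1
      rw [h1]
      refine (Finset.prod_nbij ψ (fun a _ => ?_) (hψinj.injOn) (fun w hw => ?_) fun a _ => rfl).symm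
      · rw [Polynomial.mem_nthRootsFinset hmp.pos, hψ, AddChar.zmodChar_apply, ← pow_mul, mul_comm, pow_mul,
          hξ.pow_eq_one, one_pow]
      · rw [Finset.mem_coe, Polynomial.mem_nthRootsFinset hmp.pos] at hw
        obtain ⟨i, hi, rfl⟩ := hξ.eq_pow_of_pow_eq_one hw
        exact ⟨(i : ZMod m), mem_coe.2 (mem_univ _), by rw [hψ, AddChar.zmodChar_apply']⟩
    rw [← prod_union hd, hun]
    have hy1 : y' - 1 ≠ 0 := sub_ne_zero.2 fun h => hy ((algebraMap K L).injective (by rw [← hy', h, map_one]))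
    refine mul_left_cancel₀ hy1 ?_
    rw [mul_geom_sum, hall, ← mul_prod_erase univ _ (mem_univ (0 : ZMod m)), AddChar.map_zero_eq_one]
  -- the Galois action
  have hfix : ∀ σ : Gal(L/K), σ (F 1 + F (-1)) = F 1 + F (-1) ∧ σ ((F 1 - F (-1)) * g) = (F 1 - F (-1)) * g := by
    intro σ
    have hξσ : IsPrimitiveRoot (σ ξ) m := hξ.map_of_injective σ.injective
    obtain ⟨i, hi, hie⟩ := hξ.eq_pow_of_pow_eq_one hξσ.pow_eq_one
    have hi0 : ((i : ℕ) : ZMod m) ≠ 0 := fun h => by
      rw [ZMod.natCast_eq_zero_iff] at h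
      have : i = 0 := Nat.eq_zero_of_dvd_of_lt h hi
      rw [this, pow_zero] at hie
      exact hξσ.ne_one hmp.one_lt hie.symm
    set u : ZMod m := ((i : ℕ) : ZMod m) with hu
    have hψσ : ∀ a, σ (ψ a) = ψ (u * a) := fun a => by
      rw [hψ, AddChar.zmodChar_apply, map_pow, ← hie, ← pow_mul, ← AddChar.zmodChar_apply'
        ((IsPrimitiveRoot.iff_def ξ m).mp hξ).left]
      congr 1
      rw [hu]; push_cast; rw [ZMod.natCast_val, ZMod.cast_id]
    have hFσ : ∀ ε, σ (F ε) = F (χ₀ u * ε) := by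
      intro ε
      show σ (∏ a ∈ univ.filter (fun a : ZMod m => χ₀ a = ε), (y' - ψ a)) = _
      rw [map_prod]
      refine Finset.prod_equiv (Equiv.mulLeft₀ u hi0) (fun a => ?_) (fun a _ => ?_)
      · simp only [mem_filter, mem_univ, true_and, Equiv.mulLeft₀_apply, map_mul]
        refine ⟨fun h => by rw [h], fun h => mul_left_cancel₀ ?_ h⟩
        rcases quadraticChar_dichotomy hi0 with h' | h' <;> rw [hχ₀, h'] <;> norm_num
      · rw [map_sub, hψσ, hy', AlgEquiv.commutes]; rfl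
    have hgσ : σ g = χ u * g := by
      have h1 : σ g = gaussSum χ (ψ.mulShift u) := by
        rw [hg]
        simp only [gaussSum, map_sum, map_mul, hψσ, AddChar.mulShift_apply]
        refine Finset.sum_congr rfl fun a _ => ?_
        rw [hχa, map_intCast]
      rw [h1]
      have h2 := gaussSum_mulShift χ ψ (Units.mk0 u hi0)
      rw [Units.val_mk0] at h2
      rw [hg, ← h2, ← mul_assoc]
      have : χ u * χ u = 1 := by
        rw [hχa]
        rcases quadraticChar_dichotomy hi0 with h' | h' <;> rw [← hχ₀] at h' <;> rw [h'] <;> norm_num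
      rw [this, one_mul]
    rw [map_add, map_mul, map_sub, hFσ, hFσ, hgσ, hχa]
    rcases quadraticChar_dichotomy hi0 with h' | h' <;> rw [← hχ₀] at h' <;> rw [h']
    · simp
    · constructor
      · simp [add_comm]
      · simp only [neg_one_mul, neg_neg, Int.cast_neg, Int.cast_one]; ring
  obtain ⟨e, he⟩ := (InfiniteGalois.mem_range_algebraMap_iff_fixed _).2 fun σ => (hfix σ).1
  obtain ⟨f, hf⟩ := (InfiniteGalois.mem_range_algebraMap_iff_fixed _).2 fun σ => (hfix σ).2
  refine ⟨e / 2, f / (2 * m), (algebraMap K L).injective ?_⟩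
  simp only [map_sum, map_pow, map_add, map_mul, map_div₀, map_natCast, map_ofNat, he, hf]
  rw [← hy', ← hprod]
  have hm0 : (m : L) ≠ 0 := NeZero.ne _
  have hinv : (m : L) * (m : L)⁻¹ = 1 := mul_inv_cancel₀ hm0
  simp only [div_eq_mul_inv, mul_inv]
  linear_combination (-((F 1 - F (-1)) ^ 2) * (m : L) * (m : L)⁻¹ ^ 2 / 4) * hg2 +
    ((F 1 - F (-1)) ^ 2 / 4 * ((m : L) * (m : L)⁻¹ + 1)) * hinv

/-- **The level.** -/
theorem neg_one_sum_three_squares {φ : K} (hφ : φ ^ 2 = φ + 1) {r : ℕ} (hr : r.Prime) (hr7 : 7 ≤ r) {ζ : K}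
    (hζ : IsPrimitiveRoot ζ r) : ∃ a b c : K, a ^ 2 + b ^ 2 + c ^ 2 = -1 := by
  haveI := Fact.mk hr
  have hrc : ringChar (ZMod r) ≠ 2 := by rw [ZMod.ringChar_zmod_n]; omega
  obtain ⟨a, ha⟩ := FiniteField.exists_nonsquare hrc
  have hcop : Nat.Coprime 20 r := by
    rw [Nat.coprime_comm, hr.coprime_iff_not_dvd]
    intro hd
    have := Nat.le_of_dvd (by norm_num) hd
    interval_cases r <;> first | omega | norm_num at hr
  obtain ⟨c, hc1, hc2⟩ := Nat.chineseRemainder hcop 3 a.val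
  haveI : NeZero (20 * r) := ⟨Nat.mul_ne_zero (by norm_num) hr.ne_zero⟩
  have hcu : IsUnit (c : ZMod (20 * r)) := by
    rw [ZMod.isUnit_iff_coprime]
    refine Nat.Coprime.mul_right ?_ ?_
    · rw [Nat.coprime_iff_gcd_eq_one, Nat.ModEq.gcd_eq hc1]; rfl
    · rw [Nat.coprime_comm, hr.coprime_iff_not_dvd]
      intro hd
      refine ha ?_
      have : (c : ZMod r) = a := by
        rw [(ZMod.natCast_eq_natCast_iff _ _ _).2 hc2, ZMod.natCast_val, ZMod.cast_id]
      rw [← this, (ZMod.natCast_eq_zero_iff c r).2 hd]; exact IsSquare.zero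
  obtain ⟨m, -, hm, hmc⟩ := Nat.forall_exists_prime_gt_and_eq_mod hcu 0
  haveI := Fact.mk hm
  have hm20 : m % 20 = 3 := by
    have := ((ZMod.natCast_eq_natCast_iff _ _ _).1 hmc).of_dvd (Dvd.intro r rfl)
    exact this.trans hc1
  have hma : (m : ZMod r) = a := by
    have := (((ZMod.natCast_eq_natCast_iff _ _ _).1 hmc).of_dvd (Dvd.intro_left 20 rfl)).trans hc2
    rw [(ZMod.natCast_eq_natCast_iff _ _ _).2 this, ZMod.natCast_val, ZMod.cast_id]
  have hm0 : (m : ZMod r) ≠ 0 := fun h => ha (by rw [← hma, h]; exact IsSquare.zero)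
  set k := r / 2
  have hk : (m : ZMod r) ^ k = -1 := by
    rcases ZMod.pow_div_two_eq_neg_one_or_one r hm0 with h | h
    · exact absurd ((ZMod.euler_criterion r hm0).2 h) (hma ▸ ha)
    · exact h
  -- the telescope
  have hne : ∀ i : ℕ, ζ ^ (m ^ i) ≠ 1 := fun i h => by
    have hd := hζ.pow_eq_one_iff_dvd _ |>.1 h
    exact hm0 ((ZMod.natCast_eq_zero_iff m r).2 (hr.dvd_of_dvd_pow hd))
  have htel : ∀ i : ℕ, ∃ w : K, IsForm (m : K) w ∧ (1 - ζ) * w = 1 - ζ ^ (m ^ i) := by
    intro i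
    induction i with
    | zero => exact ⟨1, ⟨1, 0, by ring⟩, by simp⟩
    | succ i ih =>
      obtain ⟨w, hw, he⟩ := ih
      refine ⟨w * _, hw.mul (geom_isForm (by omega : m % 4 = 3) _ (hne i)), ?_⟩
      rw [← mul_assoc, he, mul_neg_geom_sum, ← pow_mul, ← pow_succ]
  obtain ⟨w, hw, he⟩ := htel k
  have hζk : ζ ^ (m ^ k) = ζ ^ (r - 1) := by
    rw [← pow_mod_orderOf, ← pow_mod_orderOf ζ (r - 1), ← hζ.eq_orderOf]
    refine congrArg (fun n => ζ ^ n) ((ZMod.natCast_eq_natCast_iff' _ _ _).1 ?_)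
    push_cast [Nat.cast_sub hr.one_le]
    rw [hk, ZMod.natCast_self, zero_sub]
  have hζr : ζ ^ (r - 1) * ζ = 1 := by
    rw [← pow_succ, Nat.sub_add_cancel hr.one_le, hζ.pow_eq_one]
  have hwv : w * ζ = -1 := by
    have h1 : ζ - 1 ≠ 0 := sub_ne_zero.2 (hζ.ne_one (by omega))
    refine mul_left_cancel₀ h1 ?_
    linear_combination (-ζ) * he + ζ * hζk + hζr
  obtain ⟨e, c', hec⟩ := hw
  obtain ⟨a', b', hab⟩ := prime_sum_two_squares hφ hm20
  obtain ⟨j, hj⟩ : Odd r := hr.odd_of_ne_two (by omega)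
  have hsq : (ζ ^ (j + 1)) ^ 2 = ζ := by
    rw [← pow_mul, show (j + 1) * 2 = r + 1 by omega, pow_succ, hζ.pow_eq_one, one_mul]
  refine ⟨ζ ^ (j + 1) * e, ζ ^ (j + 1) * c' * a', ζ ^ (j + 1) * c' * b', ?_⟩
  rw [← hwv, hec, hab]
  linear_combination (e ^ 2 + (a' ^ 2 + b' ^ 2) * c' ^ 2) * hsq

end Cfsg.Lib.Solv.Amitsur
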