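import Cfsg.Agent.Lib.Solv.ComplementExamples
import Cfsg.Agent.Lib.Perm.Zas25.Complement
import Cfsg.Agent.Lib.Solv.Amitsur.Level
import Cfsg.Agent.Lib.Linear.SLPerfect
import Mathlib.RingTheory.LittleWedderburn
import Mathlib.RingTheory.Adjoin.FG

/-!
# Non-solvable finite subgroups of division rings (Amitsur)
-/

set_option autoImplicit false
set_option linter.style.haveILetI false

namespace Cfsg.Lib.Solv.Amitsur

open Subgroup
open scoped MatrixGroups

universe u

variable {D : Type u} [DivisionRing D]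

/-- The inclusion of a subgroup of units. -/
def valHom (H : Subgroup Dˣ) : H →* D := (Units.coeHom D).comp H.subtype

theorem valHom_injective (H : Subgroup Dˣ) : Function.Injective (valHom H) :=
  Units.val_injective.comp Subtype.val_injective

theorem charZero_of_nonsolvable (H : Subgroup Dˣ) [Finite H] (hH : ¬ Group.IsSolvable H) : CharZero D := by
  obtain ⟨q, hq⟩ := CharP.exists D
  rcases CharP.char_is_prime_or_zero D q with hqp | rfl
  · exfalso
    haveI : Fact q.Prime := ⟨hqp⟩
    letI : Algebra (ZMod q) D := ZMod.algebra D q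
    set A := Algebra.adjoin (ZMod q) (Set.range (valHom H)) with hA
    have hspan : Subalgebra.toSubmodule A = Submodule.span (ZMod q) (Set.range (valHom H)) := by
      rw [hA, Algebra.adjoin_eq_span, show Set.range (valHom H) = ((MonoidHom.mrange (valHom H) : Submonoid D) : Set D)
        from rfl, Submonoid.closure_eq]
    haveI : Module.Finite (ZMod q) (Subalgebra.toSubmodule A) :=
      hspan ▸ Module.Finite.span_of_finite (ZMod q) (Set.finite_range _)
    haveI : Finite A := Module.finite_of_finite (ZMod q) (M := Subalgebra.toSubmodule A)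
    have hc := (Finite.isDomain_to_isField A).mul_comm
    have hHc : ∀ a b : H, a * b = b * a := fun a b => valHom_injective H (by
      rw [map_mul, map_mul]
      exact congrArg Subtype.val (hc ⟨_, Algebra.subset_adjoin ⟨a, rfl⟩⟩ ⟨_, Algebra.subset_adjoin ⟨b, rfl⟩⟩))
    exact hH (Group.isSolvable_of_comm hHc)
  · exact CharP.charP_to_charZero D

/-- The reduction modulo a large prime of the span. -/
theorem exists_fpf_rep [CharZero D] (H : Subgroup Dˣ) [Finite H] :
    ∃ (l : ℕ) (_ : Fact l.Prime) (n : ℕ) (ρ : H →* Module.End (ZMod l) (Fin n → ZMod l)),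
      n ≠ 0 ∧ ∀ g : H, g ≠ 1 → ∀ v : Fin n → ZMod l, ρ g v = v → v = 0 := by
  classical
  obtain ⟨n, ρ, hn, hsum⟩ := ComplementExamples.exists_matrix (k := ℤ) H
  obtain ⟨q, hq1, hq2⟩ := Nat.exists_infinite_primes (Nat.card H + 1)
  haveI : Fact q.Prime := ⟨hq2⟩
  let ρ' : H →* Matrix (Fin n) (Fin n) (ZMod q) := (Int.castRingHom (ZMod q)).mapMatrix.toMonoidHom.comp ρ
  refine ⟨q, inferInstance, n,
    ((Matrix.toLinAlgEquiv' : Matrix (Fin n) (Fin n) (ZMod q) ≃ₐ[ZMod q] _).toAlgHom.toMonoidHom).comp ρ', hn,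
    fun b hb v hv => ?_⟩
  have hv' : Matrix.mulVec (ρ' b) v = v := hv
  have hpow : ∀ i : ℕ, Matrix.mulVec (ρ' b ^ i) v = v := fun i => by
    induction i with
    | zero => simp
    | succ i ih => rw [pow_succ, ← Matrix.mulVec_mulVec, hv', ih]
  have hs : ∑ i ∈ Finset.range (orderOf b), ρ' b ^ i = 0 := by
    have h := congrArg (Int.castRingHom (ZMod q)).mapMatrix (hsum b hb)
    simpa [ρ', map_sum, map_pow] using h
  have h2 : (orderOf b : ZMod q) • v = 0 := by
    have h := congrArg (fun M => Matrix.mulVec M v) hs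
    simp only [Matrix.sum_mulVec, hpow, Finset.sum_const, Finset.card_range, Matrix.zero_mulVec] at h
    rwa [Nat.cast_smul_eq_nsmul]
  have hne : (orderOf b : ZMod q) ≠ 0 := fun h => by
    have h1 := Nat.le_of_dvd Nat.card_pos
      (((CharP.cast_eq_zero_iff (ZMod q) q _).1 h).trans (orderOf_dvd_natCard b))
    omega
  exact (smul_eq_zero.1 h2).resolve_left hne

section Ring

variable [CharZero D]

theorem no_sq_neg_one_of_comm {i j w : D} (hii : i * i = -1) (hij : i * j = -(j * i)) (hj : j ≠ 0)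
    (hwi : w * i = i * w) (hwj : w * j = j * w) : w * w ≠ -1 := by
  intro hw
  have h : (w - i) * (w + i) = 0 := by
    rw [sub_mul, mul_add, mul_add, hw, hii, hwi]; abel
  have hi0 : i ≠ 0 := fun e => by rw [e, zero_mul] at hii; exact neg_ne_zero.2 one_ne_zero hii.symm
  have hcomm : i * j = j * i := by
    rcases mul_eq_zero.1 h with e | e
    · rw [← sub_eq_zero.1 e]; exact hwj
    · rw [eq_neg_iff_add_eq_zero.2 e, neg_mul, mul_neg, neg_inj] at hwj; exact hwj
  rw [hcomm] at hij
  rcases mul_eq_zero.1 (self_eq_neg.1 hij) with e | e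
  · exact hj e
  · exact hi0 e

/-- Commuting of a trace with an element of order four. -/
theorem trace_comm {g g' u τ : D} (hu : u * u = -1) (hτ : τ * u = u * τ) (h : g * u - u * g' = τ) :
    (g + g') * u = u * (g + g') := by
  have h1 : u * (g * u - u * g') * u = u * τ * u := by rw [h]
  rw [mul_assoc u τ u, hτ, ← mul_assoc, hu, neg_one_mul, mul_sub, sub_mul, mul_assoc, mul_assoc g u u, hu,
    ← mul_assoc u u g', hu, neg_one_mul, neg_mul, mul_neg, mul_one, mul_neg] at h1
  have h2 : u * g - g' * u = τ := by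
    rw [sub_neg_eq_add] at h1
    have := congrArg Neg.neg h1
    rw [neg_neg, neg_add, neg_neg] at this
    rw [← this]; abel
  calc (g + g') * u = (g * u - u * g') + u * g' + g' * u := by rw [add_mul]; abel
    _ = (u * g - g' * u) + u * g' + g' * u := by rw [h, h2]
    _ = u * (g + g') := by rw [mul_add]; abel

theorem trace_sq {g : D} (h5 : g ^ 5 = 1) (hg : g ≠ 1) :
    (g + g ^ 4) * (g + g ^ 4) + (g + g ^ 4) = 1 := by
  have hphi : g ^ 4 + g ^ 3 + g ^ 2 + g + 1 = 0 := by
    have h : (g - 1) * (g ^ 4 + g ^ 3 + g ^ 2 + g + 1) = 0 := by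
      simp only [sub_mul, mul_add, one_mul, mul_one, ← pow_succ', h5]
      rw [show g * g = g ^ 2 from (pow_two g).symm]; abel
    exact (mul_eq_zero.1 h).resolve_left (sub_ne_zero.2 hg)
  have e5 : g ^ (1 + 4) = 1 := h5
  have e5' : g ^ (4 + 1) = 1 := h5
  have e8 : g ^ (4 + 4) = g ^ 3 := by rw [show (4 + 4 : ℕ) = 5 + 3 by rfl, pow_add, h5, one_mul]
  have hsq : (g + g ^ 4) * (g + g ^ 4) = g ^ 2 + 1 + 1 + g ^ 3 := by
    calc (g + g ^ 4) * (g + g ^ 4) = (g ^ 1 + g ^ 4) * (g ^ 1 + g ^ 4) := by rw [pow_one]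
      _ = g ^ 2 + 1 + 1 + g ^ 3 := by
        rw [add_mul, mul_add, mul_add, ← pow_add, ← pow_add, ← pow_add, ← pow_add, e5, e8, show (1 + 1 : ℕ) = 2 from rfl]; abel
  rw [hsq, ← sub_eq_zero, ← hphi]; abel

/-- The splitting of the quaternions. -/
theorem splitting {i j T w : D} (hii : i * i = -1) (hjj : j * j = -1) (hij : i * j = -(j * i))
    (hT : T * T + T = 1) (hTi : T * i = i * T) (hTj : T * j = j * T) (hTw : T * w = w * T)
    (hwi : w * i = i * w) (hwj : w * j = j * w) {r : ℕ} (hr : r.Prime) (hr7 : 7 ≤ r) (hw : w ^ r = 1) (hw1 : w ≠ 1) :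
    False := by
  classical
  letI : Algebra ℚ D := DivisionRing.toRatAlgebra
  set A := Algebra.adjoin ℚ ({T, w} : Set D) with hA
  letI : CommRing A := Algebra.adjoinCommRingOfComm ℚ (by
    rintro a (rfl | rfl) b (rfl | rfl) <;> first | rfl | exact hTw | exact hTw.symm)
  let T' : A := ⟨T, Algebra.subset_adjoin (Or.inl rfl)⟩
  let w' : A := ⟨w, Algebra.subset_adjoin (Or.inr rfl)⟩
  have hTint : IsIntegral ℚ T' := ⟨Polynomial.X ^ 2 + Polynomial.X - 1,
    by monicity!, by
      rw [← Polynomial.aeval_def]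
      simp only [map_sub, map_add, map_pow, Polynomial.aeval_X, map_one]
      exact Subtype.ext (by show T ^ 2 + T - 1 = 0; rw [pow_two, hT, sub_self])⟩
  have hwint : IsIntegral ℚ w' := IsIntegral.of_pow hr.pos (by
    rw [show w' ^ r = 1 from Subtype.ext (by show w ^ r = 1; exact hw)]; exact isIntegral_one)
  have htop : Algebra.adjoin ℚ ({T', w'} : Set A) = ⊤ := by
    refine Subalgebra.map_injective (f := A.val) Subtype.val_injective ?_
    rw [AlgHom.map_adjoin, Algebra.map_top, Subalgebra.range_val, Set.image_pair]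
    rfl
  haveI : Module.Finite ℚ A := ⟨by
    have := fg_adjoin_of_finite (R := ℚ) (s := ({T', w'} : Set A)) (Set.toFinite _)
      (by rintro x (rfl | rfl); exacts [hTint, hwint])
    rwa [htop] at this⟩
  haveI : IsDomain A := Function.Injective.isDomain A.val.toRingHom Subtype.val_injective
  letI : Field A := fieldOfFiniteDimensional ℚ A
  haveI : CharZero A := charZero_of_injective_algebraMap (algebraMap ℚ A).injective
  obtain ⟨a, b, c, habc⟩ := neg_one_sum_three_squares (K := A) (φ := -T') (by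
    refine Subtype.ext ?_
    show (-T) ^ 2 = -T + 1
    rw [pow_two, neg_mul_neg, ← hT]; abel) hr hr7 (ζ := w')
    (haveI := Fact.mk hr
     orderOf_eq_prime (x := w') (Subtype.ext hw) (fun h => hw1 (congrArg Subtype.val h)) ▸ IsPrimitiveRoot.orderOf w')
  have hcen : ∀ d : A, ∀ u : D, T * u = u * T → w * u = u * w → (d : D) * u = u * d := by
    intro d u hu hu'
    have hd : Commute u (d : D) := Algebra.commute_of_mem_adjoin_of_forall_mem_commute d.2 (by
      rintro v (rfl | rfl)
      · exact hu.symm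
      · exact hu'.symm)
    exact hd.eq.symm
  obtain ⟨k, hk⟩ : ∃ k, k = i * j := ⟨_, rfl⟩
  have ha := hcen a; have hb := hcen b; have hc := hcen c
  have hTk : T * k = k * T := by rw [hk, ← mul_assoc, hTi, mul_assoc, hTj, mul_assoc]
  have hwk : w * k = k * w := by rw [hk, ← mul_assoc, hwi, mul_assoc, hwj, mul_assoc]
  have hji : j * i = -k := by rw [hk, hij, neg_neg]
  have hik : i * k = -j := by rw [hk, ← mul_assoc, hii, neg_one_mul]
  have hki : k * i = j := by rw [hk, mul_assoc, hji, mul_neg, hik, neg_neg]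
  have hkj : k * j = -i := by rw [hk, mul_assoc, hjj, mul_neg_one]
  have hjk : j * k = i := by rw [hk, ← mul_assoc, hji, neg_mul, hkj, neg_neg]
  have hkk : k * k = -1 := by nth_rw 1 [hk]; rw [mul_assoc, hjk, hii]
  set v : D := a * i + b * j + c * k with hv
  have key : ∀ (x y : A) (p q : D), T * p = p * T → w * p = p * w →
      ((x : D) * p) * ((y : D) * q) = ((x * y : A) : D) * (p * q) := by
    intro x y p q h1 h2
    rw [mul_assoc, ← mul_assoc p, ← hcen y p h1 h2, MulMemClass.coe_mul]
    simp only [mul_assoc]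
  have sq : ∀ (x : A) (p : D), T * p = p * T → w * p = p * w → p * p = -1 →
      ((x : D) * p) * ((x : D) * p) = -((x * x : A) : D) := by
    intro x p h1 h2 h3
    rw [key x x p p h1 h2, h3, mul_neg, mul_one]
  have cross : ∀ (x y : A) (p q : D), T * p = p * T → w * p = p * w → T * q = q * T → w * q = q * w →
      p * q = -(q * p) → ((x : D) * p) * ((y : D) * q) + ((y : D) * q) * ((x : D) * p) = 0 := by
    intro x y p q h1 h2 h3 h4 h5
    rw [key x y p q h1 h2, key y x q p h3 h4, mul_comm y x, h5, mul_neg, neg_add_cancel]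
  have hvv : v * v = 1 := by
    have e : ((a * a : A) : D) + ((b * b : A) : D) + ((c * c : A) : D) = -1 := by
      have h := congrArg (fun d : A => (d : D)) habc
      simp only [pow_two] at h
      exact h
    calc v * v = ((a : D) * i) * ((a : D) * i) + ((b : D) * j) * ((b : D) * j) + ((c : D) * k) * ((c : D) * k) +
        (((a : D) * i) * ((b : D) * j) + ((b : D) * j) * ((a : D) * i)) +
        (((a : D) * i) * ((c : D) * k) + ((c : D) * k) * ((a : D) * i)) +
        (((b : D) * j) * ((c : D) * k) + ((c : D) * k) * ((b : D) * j)) := by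
          simp only [hv, add_mul, mul_add]; abel
      _ = 1 := by
          rw [sq a i hTi hwi hii, sq b j hTj hwj hjj, sq c k hTk hwk hkk, cross a b i j hTi hwi hTj hwj hij,
            cross a c i k hTi hwi hTk hwk (by rw [hik, hki]), cross b c j k hTj hwj hTk hwk (by rw [hjk, hkj, neg_neg])]
          rw [add_zero, add_zero, add_zero, ← neg_add, ← neg_add, e, neg_neg]
  have hfac : (v - 1) * (v + 1) = 0 := by rw [sub_mul, mul_add, hvv, one_mul, mul_one]; abel
  -- the conjugates of a pure quaternion sum to zero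
  have conj : ∀ (x : A) (u p : D), T * u = u * T → w * u = u * w →
      u * ((x : D) * p) * u = (x : D) * (u * p * u) := by
    intro x u p h1 h2
    rw [← mul_assoc, ← hcen x u h1 h2, mul_assoc (x : D) u p, mul_assoc]
  have hsum : v - i * v * i - j * v * j - k * v * k = 0 := by
    rw [hv]
    simp only [mul_add, add_mul, conj _ i _ hTi hwi, conj _ j _ hTj hwj, conj _ k _ hTk hwk]
    have e1 : i * i * i = -i ∧ j * i * j = i ∧ k * i * k = i := by
      refine ⟨?_, ?_, ?_⟩
      · rw [hii, neg_one_mul]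
      · rw [hji, neg_mul, hkj, neg_neg]
      · rw [hki, hjk]
    have e2 : i * j * i = j ∧ j * j * j = -j ∧ k * j * k = j := by
      refine ⟨?_, ?_, ?_⟩
      · rw [← hk, hki]
      · rw [hjj, neg_one_mul]
      · rw [hkj, neg_mul, hik, neg_neg]
    have e3 : i * k * i = k ∧ j * k * j = k ∧ k * k * k = -k := by
      refine ⟨?_, ?_, ?_⟩
      · rw [hik, neg_mul, hji, neg_neg]
      · rw [hjk, hk]
      · rw [hkk, neg_one_mul]
    rw [e1.1, e1.2.1, e1.2.2, e2.1, e2.2.1, e2.2.2, e3.1, e3.2.1, e3.2.2, mul_neg, mul_neg, mul_neg]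
    abel
  have hv0 : ∀ ε : D, v = ε → ε * i = i * ε → ε * j = j * ε → ε + ε + ε + ε = 0 := by
    intro ε hve h1 h2
    rw [hve] at hsum
    have h3 : ε * k = k * ε := by rw [hk, ← mul_assoc, h1, mul_assoc, h2, mul_assoc]
    rw [← h1, ← h2, ← h3, mul_assoc ε i i, mul_assoc ε j j, mul_assoc ε k k, hii, hjj, hkk, mul_neg, mul_one,
      sub_neg_eq_add, sub_neg_eq_add, sub_neg_eq_add] at hsum
    exact hsum
  have h4 : (4 : D) ≠ 0 := by norm_num
  rcases mul_eq_zero.1 hfac with e | e
  · have := hv0 1 (sub_eq_zero.1 e) (by rw [one_mul, mul_one]) (by rw [one_mul, mul_one])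
    exact h4 (by rw [← this]; norm_num)
  · have := hv0 (-1) (eq_neg_iff_add_eq_zero.2 e) (by rw [neg_one_mul, mul_neg_one]) (by rw [neg_one_mul, mul_neg_one])
    exact h4 (by rw [← neg_eq_zero, ← this]; norm_num)

end Ring

section SL

local notation "SL5" => Matrix.SpecialLinearGroup (Fin 2) (ZMod 5)

def gGen : SL5 := ⟨!![1, 1; 0, 1], by decide⟩
def sGen : SL5 := ⟨!![0, -1; 1, 0], by decide⟩
def jGen : SL5 := ⟨!![2, 0; 0, 3], by decide⟩

theorem gen_facts :
    (sGen * sGen) * (sGen * sGen) = 1 ∧ sGen * sGen ≠ 1 ∧ jGen * jGen = sGen * sGen ∧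
      sGen * jGen = (sGen * sGen) * (jGen * sGen) ∧ gGen ^ 5 = 1 ∧ gGen ≠ 1 ∧
      (gGen * sGen) * ((gGen * sGen) * (gGen * sGen)) = sGen * sGen ∧ gGen * sGen ≠ sGen * sGen ∧
      (gGen * jGen) * (gGen * jGen) = sGen * sGen := by
  refine ⟨?_, ?_, ?_, ?_, ?_, ?_, ?_, ?_, ?_⟩ <;> decide

/-- Conjugation by a trace zero matrix of non-square determinant. -/
def outerFun (X : SL5) : SL5 :=
  ⟨!![0, 2; 1, 0] * (X : Matrix (Fin 2) (Fin 2) (ZMod 5)) * !![0, 1; 3, 0], by
    rw [Matrix.det_mul, Matrix.det_mul, X.2, mul_one]; decide⟩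

theorem outerFun_outerFun (X : SL5) : outerFun (outerFun X) = X := by
  apply Subtype.ext
  show !![0, 2; 1, 0] * (!![0, 2; 1, 0] * (X : Matrix (Fin 2) (Fin 2) (ZMod 5)) * !![0, 1; 3, 0]) * !![0, 1; 3, 0] =
    (X : Matrix (Fin 2) (Fin 2) (ZMod 5))
  have hP : (!![0, 2; 1, 0] : Matrix (Fin 2) (Fin 2) (ZMod 5)) * !![0, 2; 1, 0] = (2 : ZMod 5) • 1 := by decide
  have hQ : (!![0, 1; 3, 0] : Matrix (Fin 2) (Fin 2) (ZMod 5)) * !![0, 1; 3, 0] = (3 : ZMod 5) • 1 := by decide
  simp only [← Matrix.mul_assoc, hP]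
  rw [Matrix.mul_assoc, hQ, Matrix.smul_mul, Matrix.one_mul, Matrix.mul_smul, Matrix.mul_one, smul_smul,
    show (3 : ZMod 5) * 2 = 1 by decide, one_smul]

theorem outerFun_mul (X Y : SL5) : outerFun (X * Y) = outerFun X * outerFun Y := by
  apply Subtype.ext
  show !![0, 2; 1, 0] * ((X : Matrix (Fin 2) (Fin 2) (ZMod 5)) * (Y : Matrix (Fin 2) (Fin 2) (ZMod 5))) * !![0, 1; 3, 0] =
    (!![0, 2; 1, 0] * (X : Matrix (Fin 2) (Fin 2) (ZMod 5)) * !![0, 1; 3, 0]) *
      (!![0, 2; 1, 0] * (Y : Matrix (Fin 2) (Fin 2) (ZMod 5)) * !![0, 1; 3, 0])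
  have h : (!![0, 1; 3, 0] : Matrix (Fin 2) (Fin 2) (ZMod 5)) * !![0, 2; 1, 0] = 1 := by decide
  simp only [Matrix.mul_assoc]
  rw [← Matrix.mul_assoc !![0, 1; 3, 0] !![0, 2; 1, 0], h, Matrix.one_mul]

/-- The automorphism. -/
def outer : MulAut SL5 where
  toFun := outerFun
  invFun := outerFun
  left_inv := outerFun_outerFun
  right_inv := outerFun_outerFun
  map_mul' := outerFun_mul

theorem outer_outer (X : SL5) : outer (outer X) = X := outerFun_outerFun X

theorem outer_gen : outer gGen = sGen * gGen ^ 2 * sGen⁻¹ ∧ outer gGen ≠ gGen := by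
  refine ⟨Subtype.ext ?_, fun h => ?_⟩
  · decide
  · have := congrArg (fun X : SL5 => (X : Matrix (Fin 2) (Fin 2) (ZMod 5))) h
    revert this; decide

end SL

set_option maxHeartbeats 1000000 in
/-- **Amitsur.** -/
theorem nonsolvable_iso (H : Subgroup Dˣ) [Finite H] (hH : ¬ Group.IsSolvable H) :
    Nonempty (H ≃* Matrix.SpecialLinearGroup (Fin 2) (ZMod 5)) := by
  classical
  haveI := Fact.mk (show Nat.Prime 5 by norm_num)
  haveI := charZero_of_nonsolvable H hH
  obtain ⟨l, hl, n, ρ, hn, hfpf⟩ := exists_fpf_rep H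
  haveI : Nonempty (Fin n) := ⟨⟨0, Nat.pos_of_ne_zero hn⟩⟩
  obtain ⟨G₀, -, hidx, S, M, hSn, hSM, -, hcomm, ⟨e⟩, -, hcop⟩ :=
    Cfsg.Lib.Perm.Zas25.nonsolvable_structure ρ hfpf hH
  set f := valHom H with hf
  have hfi : Function.Injective f := valHom_injective H
  have invol : ∀ y : H, y * y = 1 → y = 1 ∨ f y = -1 := by
    intro y hy
    have h : (f y - 1) * (f y + 1) = 0 := by
      simp only [sub_mul, mul_add, one_mul, mul_one, ← map_mul, hy, map_one]; abel
    exact (mul_eq_zero.1 h).imp (fun h => hfi (by rw [map_one]; exact sub_eq_zero.1 h)) eq_neg_iff_add_eq_zero.2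
  set ε : SL(2, ZMod 5) →* H := S.subtype.comp e.symm.toMonoidHom with hε
  have hεi : Function.Injective ε := S.subtype_injective.comp e.symm.injective
  set E := f.comp ε with hE
  obtain ⟨f1, f2, f3, f4, f5, f6, f7, f8, f9⟩ := gen_facts
  have hz : E (sGen * sGen) = -1 := (invol (ε (sGen * sGen)) (by rw [← map_mul, f1, map_one])).resolve_left
    fun h => f2 (hεi (h.trans (map_one ε).symm))
  have hii : E sGen * E sGen = -1 := by rw [← map_mul, hz]
  have hjj : E jGen * E jGen = -1 := by rw [← map_mul, f3, hz]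
  have hij : E sGen * E jGen = -(E jGen * E sGen) := by rw [← map_mul, f4, map_mul, hz, neg_one_mul, map_mul]
  set g := E gGen with hgd
  have hg5 : g ^ 5 = 1 := by rw [hgd, ← map_pow, f5, map_one]
  have hg1 : g ≠ 1 := fun h => f6 (hεi (hfi (h.trans (map_one E).symm)))
  have hgg : g * g ^ 4 = 1 := by rw [← pow_succ', hg5]
  have hgg' : g ^ 4 * g = 1 := by rw [← pow_succ, hg5]
  set T := g + g ^ 4 with hTd
  have hT : T * T + T = 1 := trace_sq hg5 hg1
  have hinv : ∀ u : D, u * u = -1 → (g * u) * (-(u * g ^ 4)) = 1 := fun u hu => by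
    rw [mul_neg, mul_assoc g u, ← mul_assoc u u, hu, neg_one_mul, mul_neg, neg_neg, hgg]
  have hTs : T * E sGen = E sGen * T := by
    set w := g * E sGen with hw
    have hw3 : w * (w * w) = -1 := by rw [hw, hgd, ← map_mul, ← map_mul, ← map_mul, f7, hz]
    have hwne : w + 1 ≠ 0 := fun h => f8 (hεi (hfi (show E (gGen * sGen) = E (sGen * sGen) by
      rw [hz, map_mul]; exact eq_neg_iff_add_eq_zero.2 h)))
    have hw6 : w * w - w + 1 = 0 := by
      have : (w + 1) * (w * w - w + 1) = 0 := by
        simp only [add_mul, mul_add, mul_sub, one_mul, mul_one, hw3]; abel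
      exact (mul_eq_zero.1 this).resolve_left hwne
    refine trace_comm (τ := 1) hii (by rw [one_mul, mul_one]) ?_
    set w' := -(E sGen * g ^ 4) with hw'
    have h1 : w * w' = 1 := hinv _ hii
    have h2 : (w * w - w + 1) * w' = 0 := by rw [hw6, zero_mul]
    rw [add_mul, sub_mul, mul_assoc, h1, mul_one, one_mul] at h2
    rw [← sub_eq_zero, ← h2, hw']; abel
  have hTj : T * E jGen = E jGen * T := by
    set w := g * E jGen with hw
    have hw2 : w * w = -1 := by rw [hw, hgd, ← map_mul, ← map_mul, f9, hz]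
    refine trace_comm (τ := 0) hjj (by rw [zero_mul, mul_zero]) ?_
    set w' := -(E jGen * g ^ 4) with hw'
    have h1 : w * w' = 1 := hinv _ hjj
    have h2 : (w * w + 1) * w' = 0 := by rw [hw2, neg_add_cancel, zero_mul]
    rw [add_mul, mul_assoc, h1, mul_one, one_mul] at h2
    rw [← h2, hw']; abel
  have hεS : ∀ X, ε X ∈ S := fun X => (e.symm X).2
  -- the complement is trivial
  have hM : M = ⊥ := by
    rw [← card_eq_one]
    by_contra hM1
    obtain ⟨r, hr, hdvd⟩ := Nat.exists_prime_and_dvd hM1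
    haveI := Fact.mk hr
    obtain ⟨y, hy⟩ := exists_prime_orderOf_dvd_card' (G := M) r hdvd
    have hr7 : 7 ≤ r := by
      have h30 : ¬ r ∣ 30 := fun h => hr.not_dvd_one (hcop ▸ Nat.dvd_gcd hdvd h)
      have := hr.two_le
      by_contra hlt
      push Not at hlt
      interval_cases r <;> first | omega | norm_num at hr
    have hw : f (y : H) ^ r = 1 ∧ f (y : H) ≠ 1 := by
      rw [← hy, ← map_pow, ← Subgroup.coe_pow, pow_orderOf_eq_one]
      refine ⟨map_one f, fun h => ?_⟩
      rw [OneMemClass.coe_eq_one.1 (hfi (h.trans (map_one f).symm)), orderOf_one] at hy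
      exact hr.one_lt.ne hy
    have hcm : ∀ X, f (y : H) * E X = E X * f (y : H) := fun X => by
      rw [hE, MonoidHom.comp_apply, ← map_mul, ← map_mul, hcomm _ (hεS X) _ y.2]
    refine splitting hii hjj hij hT hTs hTj ?_ (hcm _) (hcm _) hr hr7 hw.1 hw.2
    have hg' : ∀ m : ℕ, g ^ m * f (y : H) = f (y : H) * g ^ m := fun m => by
      rw [hgd, ← map_pow]; exact (hcm _).symm
    rw [hTd, add_mul, mul_add, ← hg' 4]
    congr 1
    simpa using hg' 1
  rw [hM, sup_bot_eq] at hSM
  subst hSM
  rcases hidx with h1 | h2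
  · rw [index_eq_one] at h1
    exact ⟨(topEquiv.symm.trans (MulEquiv.subgroupCongr h1.symm)).trans e⟩
  exfalso
  haveI := hSn
  -- conjugation on `S`
  let θ : H →* MulAut S := MulAut.conjNormal
  have hker : ∀ c : H, c ∈ θ.ker → c = 1 ∨ f c = -1 := by
    intro c hc
    have hcS : ∀ x ∈ S, c * x = x * c := fun x hx => by
      have := congrArg (fun a : MulAut S => ((a ⟨x, hx⟩ : S) : H)) (MonoidHom.mem_ker.1 hc)
      simp only [θ, MulAut.conjNormal_apply, MulAut.one_apply] at this
      exact mul_inv_eq_iff_eq_mul.1 this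
    have hcc : c * c ∈ S := Subgroup.mul_self_mem_of_index_two h2 c
    have hcen : (⟨c * c, hcc⟩ : S) ∈ Subgroup.center S := mem_center_iff.2 fun x => Subtype.ext (by
      show (x : H) * (c * c) = c * c * x
      rw [← mul_assoc, ← hcS x x.2, mul_assoc, ← hcS x x.2, mul_assoc])
    have h4 : (c * c) * (c * c) = 1 := by
      have h := orderOf_dvd_natCard (⟨⟨c * c, hcc⟩, hcen⟩ : Subgroup.center S)
      rw [Cfsg.Lib.Perm.Zas25.card_center_eq_two e, orderOf_dvd_iff_pow_eq_one, pow_two] at h
      exact congrArg (fun x : Subgroup.center S => ((x : S) : H)) h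
    rcases invol _ h4 with h | h
    · exact invol c h
    · exfalso
      rw [map_mul] at h
      have hcm : ∀ X, f c * E X = E X * f c := fun X => by
        rw [hE, MonoidHom.comp_apply, ← map_mul, ← map_mul, hcS _ (hεS X)]
      refine no_sq_neg_one_of_comm hii hij (fun h0 => ?_) (hcm _) (hcm _) h
      rw [h0, mul_zero] at hjj
      exact neg_ne_zero.2 one_ne_zero hjj.symm
  have hperf : commutator S = ⊤ := by
    refine Cfsg.Lib.Perm.Zas25.perfect_of_mulEquiv e.symm ?_
    exact Cfsg.Lib.Linear.commutator_SL_eq_top' (Or.inr (by rw [ZMod.card]; norm_num))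
  haveI : Finite (MulAut S) := Finite.of_injective _ DFunLike.coe_injective
  have hsurj : θ.range = ⊤ := by
    refine eq_top_of_card_eq _ (le_antisymm (card_le_card_group _) ?_)
    refine (Cfsg.Lib.Perm.Zas25.card_mulAut_le hperf e).trans ?_
    have hk : Nat.card θ.ker ≤ 2 := by
      refine le_trans (Nat.card_le_card_of_injective (fun c : θ.ker => decide ((c : H) = 1)) fun a b hab => ?_)
        (le_of_eq (by rw [Nat.card_eq_fintype_card, Fintype.card_bool]))
      simp only [decide_eq_decide] at hab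
      rcases hker a a.2 with ha | ha
      · exact Subtype.ext (ha.trans (hab.1 ha).symm)
      · rcases hker b b.2 with hb | hb
        · exact Subtype.ext ((hab.2 hb).trans hb.symm)
        · exact Subtype.ext (hfi (ha.trans hb.symm))
    have h240 : Nat.card H = 240 := by
      rw [← S.card_mul_index, h2, Cfsg.Lib.Perm.Zas25.card_eq_120 e]
    have := θ.ker.card_mul_index
    rw [index_ker, h240] at this
    nlinarith
  set α : MulAut S := (e.trans outer).trans e.symm with hα
  obtain ⟨t, ht⟩ : α ∈ θ.range := hsurj ▸ mem_top α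
  have htε : ∀ X, t * ε X * t⁻¹ = ε (outer X) := by
    intro X
    have := congrArg (fun a : MulAut S => ((a (e.symm X) : S) : H)) ht
    simpa [θ, hα, hε, MulAut.conjNormal_apply] using this
  obtain ⟨og, og1⟩ := outer_gen
  have ht2 : f t * f t = -1 := by
    have hk : t * t ∈ θ.ker := by
      rw [MonoidHom.mem_ker, map_mul, ht]
      refine MulEquiv.ext fun x => ?_
      simp [hα, MulAut.mul_apply, outer_outer]
    rcases hker _ hk with h | h
    · exfalso
      refine og1 (hεi ?_)
      rcases invol t h with h' | h'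
      · rw [← htε, h', one_mul, inv_one, mul_one]
      · refine hfi ?_
        have hinv' : f t⁻¹ = -1 := by rw [inv_eq_of_mul_eq_one_left h, h']
        rw [← htε, map_mul, map_mul, h', hinv', neg_one_mul, neg_mul_neg, mul_one]
    · rwa [map_mul] at h
  -- `t` maps `T` to its conjugate
  have hconj : f t * T = (-1 - T) * f t := by
    have hX : ∀ X, f t * E X = E (outer X) * f t := fun X => by
      simp only [hE, MonoidHom.comp_apply]
      rw [← htε X, ← map_mul, ← map_mul, inv_mul_cancel_right]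
    have hs : E sGen * E sGen⁻¹ = 1 := by rw [← map_mul, mul_inv_cancel, map_one]
    have hTT : T * T = g ^ 2 + g ^ 8 + (1 + 1) := by
      have e5 : g * g ^ 4 = 1 := hgg
      rw [hTd, add_mul, mul_add, mul_add, hgg, hgg', pow_two, show g ^ 8 = g ^ 4 * g ^ 4 by rw [← pow_add]]
      abel
    have h1 : f t * T = E sGen * (g ^ 2 + g ^ 8) * E sGen⁻¹ * f t := by
      rw [hTd, mul_add, hgd, ← map_pow, hX, hX, map_pow outer, og, conj_pow, ← pow_mul, map_mul, map_mul,
        map_mul, map_mul, map_pow, map_pow, ← hgd, mul_add (E sGen), add_mul, add_mul]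
    have h2' : g ^ 2 + g ^ 8 = -1 - T := by
      rw [eq_sub_iff_add_eq, eq_neg_iff_add_eq_zero]
      have h := hT
      rw [hTT] at h
      rw [← sub_eq_zero] at h
      rw [← h]; abel
    rw [h1, h2']
    congr 1
    have hsT : E sGen * (-1 - T) = (-1 - T) * E sGen := by
      rw [mul_sub, sub_mul, hTs, mul_neg_one, neg_one_mul]
    rw [hsT, mul_assoc, hs, mul_one]
  have hfac : (f t + -T) * (f t - (1 + T)) = 0 := by
    have e1 : (f t + -T) * (f t - (1 + T)) = f t * f t - f t - f t * T - T * f t + (T * T + T) := by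
      simp only [add_mul, mul_sub, mul_add, mul_one, neg_mul]; abel
    rw [e1, ht2, hconj, hT, sub_mul, neg_one_mul]; abel
  have hcomm' : f t * T = T * f t := by
    rcases mul_eq_zero.1 hfac with h | h
    · rw [add_neg_eq_zero.1 h]
    · rw [sub_eq_zero.1 h]; exact ((Commute.one_left T).add_left (Commute.refl T)).eq
  rw [hcomm'] at hconj
  have ht0 : f t ≠ 0 := fun h => by rw [h, zero_mul] at ht2; exact neg_ne_zero.2 one_ne_zero ht2.symm
  have hT2 : T = -1 - T := mul_right_cancel₀ ht0 hconj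
  have h5 : (5 : D) = 0 := by
    have e : T + T = -1 := by nth_rw 1 [hT2]; abel
    have : (T + T) * (T + T) + ((T + T) + (T + T)) = (T * T + T) + (T * T + T) + ((T * T + T) + (T * T + T)) := by
      rw [add_mul, mul_add]; abel
    rw [hT, e] at this
    norm_num at this
  norm_num at h5

end Cfsg.Lib.Solv.Amitsur
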